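import Cfsg.Agent.Lib.LX.Nf
import Cfsg.Agent.Lib.C2U.Car
import Cfsg.Agent.Lib.F2.Les

/-!
# The spin module of `Sp₆(2)` from its lines
-/

set_option autoImplicit false
set_option maxRecDepth 100000

namespace Cfsg.Lib.LX

open QuadraticMap Cfsg.Lib.Orth Cfsg.Lib.U6 Module Matrix Cfsg.Lib.C2U Cfsg.Lib.Symp

/-- the space -/
abbrev V8 := Fin (2 * 4) → ZMod 2
/-- the form -/
def q8 : QuadraticForm (ZMod 2) V8 := .proj 0 4 + .proj 1 5 + .proj 2 6 + .proj 3 7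
theorem q8_apply (v : V8) : q8 v = v 0 * v 4 + v 1 * v 5 + v 2 * v 6 + v 3 * v 7 := rfl
/-- its polar form -/
def p8 (u v : V8) : ZMod 2 := u 0 * v 4 + u 1 * v 5 + u 2 * v 6 + u 3 * v 7 + u 4 * v 0 + u 5 * v 1 + u 6 * v 2 + u 7 * v 3
theorem polar_q8 (u v : V8) : polar q8 u v = p8 u v := by simp only [polar, q8_apply, p8, Pi.add_apply]; ring
/-- vectors from numbers -/
def dc8 (n : ℕ) : V8 := fun i => if n.testBit i then 1 else 0
/-- table lookup -/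
def lk (t n : ℕ) : ℕ := t >>> (8 * n) % 256
/-- Siegel maps -/
def sgf (a b : ℕ) (v : V8) : V8 := v + p8 (dc8 b) v • dc8 a + p8 (dc8 a) v • dc8 b
/-- Siegel elements -/
noncomputable def se (a b : ℕ) : O q8 := eich q8 (dc8 a) (dc8 b)

theorem se_apply {a b : ℕ} (h : q8 (dc8 a) = 0 ∧ q8 (dc8 b) = 0 ∧ p8 (dc8 a) (dc8 b) = 0) (v : V8) :
    (se a b).1 v = sgf a b v := by
  rw [se, eich_apply h.1 (polar_q8 _ _ ▸ h.2.2), h.2.1, zero_mul, zero_smul, sub_zero, vsub, polar_q8, polar_q8, sgf]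

/-- the generators -/
noncomputable def gn : ℕ → O q8
  | 0 => se 1 2 | 1 => se 16 32 | 2 => se 1 4 | 3 => se 1 4 * se 2 128 | 4 => se 1 128 * se 2 132
  | 5 => se 1 64 * se 2 72 | _ => se 1 8 * se 2 64

/-- their tables -/
def tb : ℕ → ℕ
  | 0 => 0xfcfdfefff8f9fafbf4f5f6f7f0f1f2f3eeefecedeaebe8e9e6e7e4e5e2e3e0e1dddcdfded9d8dbdad5d4d7d6d1d0d3d2cfcecdcccbcac9c8c7c6c5c4c3c2c1c0bcbdbebfb8b9babbb4b5b6b7b0b1b2b3aeafacadaaaba8a9a6a7a4a5a2a3a0a19d9c9f9e99989b9a95949796919093928f8e8d8c8b8a898887868584838281807c7d7e7f78797a7b74757677707172736e6f6c6d6a6b686966676465626360615d5c5f5e59585b5a55545756515053524f4e4d4c4b4a494847464544434241403c3d3e3f38393a3b34353637303132332e2f2c2d2a2b282926272425222320211d1c1f1e19181b1a15141716111013120f0e0d0c0b0a09080706050403020100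
  | 1 => 0xcfeeddfccbead9f8c7e6d5f4c3e2d1f0dffecdecdbfac9e8d7f6c5e4d3f2c1e0efcefddcebcaf9d8e7c6f5d4e3c2f1d0ffdeedccfbdae9c8f7d6e5c4f3d2e1c08fae9dbc8baa99b887a695b483a291b09fbe8dac9bba89a897b685a493b281a0af8ebd9cab8ab998a786b594a382b190bf9ead8cbb9aa988b796a584b392a1804f6e5d7c4b6a597847665574436251705f7e4d6c5b7a496857764564537241606f4e7d5c6b4a795867467554634271507f5e6d4c7b5a694877566544735261400f2e1d3c0b2a193807261534032211301f3e0d2c1b3a092817360524133201202f0e3d1c2b0a391827063514230231103f1e2d0c3b1a29083716250433122100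
  | 2 => 0xfafbf8f9fefffcfdf2f3f0f1f6f7f4f5eeefecedeaebe8e9e6e7e4e5e2e3e0e1dadbd8d9dedfdcddd2d3d0d1d6d7d4d5cecfcccdcacbc8c9c6c7c4c5c2c3c0c1bbbab9b8bfbebdbcb3b2b1b0b7b6b5b4afaeadacabaaa9a8a7a6a5a4a3a2a1a09b9a99989f9e9d9c93929190979695948f8e8d8c8b8a898887868584838281807a7b78797e7f7c7d72737071767774756e6f6c6d6a6b686966676465626360615a5b58595e5f5c5d52535051565754554e4f4c4d4a4b484946474445424340413b3a39383f3e3d3c33323130373635342f2e2d2c2b2a292827262524232221201b1a19181f1e1d1c13121110171615140f0e0d0c0b0a09080706050403020100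
  | 3 => 0x78797a7b7c7d7e7f72737071767774756c6d6e6f68696a6b6667646562636061d8d9dadbdcdddedfd2d3d0d1d6d7d4d5cccdcecfc8c9cacbc6c7c4c5c2c3c0c139383b3a3d3c3f3e33323130373635342d2c2f2e29282b2a272625242322212099989b9a9d9c9f9e93929190979695948d8c8f8e89888b8a8786858483828180f8f9fafbfcfdfefff2f3f0f1f6f7f4f5ecedeeefe8e9eaebe6e7e4e5e2e3e0e158595a5b5c5d5e5f52535051565754554c4d4e4f48494a4b4647444542434041b9b8bbbabdbcbfbeb3b2b1b0b7b6b5b4adacafaea9a8abaaa7a6a5a4a3a2a1a019181b1a1d1c1f1e13121110171615140d0c0f0e09080b0a0706050403020100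
  | 4 => 0xfafbf8f9fefffcfdf1f0f3f2f5f4f7f66a6b68696e6f6c6d61606362656467665e5f5c5d5a5b58595554575651505352cecfcccdcacbc8c9c5c4c7c6c1c0c3c2b8b9babbbcbdbebfb3b2b1b0b7b6b5b428292a2b2c2d2e2f23222120272625241c1d1e1f18191a1b17161514131211108c8d8e8f88898a8b87868584838281807a7b78797e7f7c7d7170737275747776eaebe8e9eeefecede1e0e3e2e5e4e7e6dedfdcdddadbd8d9d5d4d7d6d1d0d3d24e4f4c4d4a4b4849454447464140434238393a3b3c3d3e3f3332313037363534a8a9aaabacadaeafa3a2a1a0a7a6a5a49c9d9e9f98999a9b97969594939291900c0d0e0f08090a0b0706050403020100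
  | 5 => 0xf6f7f4f5f1f0f3f2fefffcfdf9f8fbfaa6a7a4a5a1a0a3a2aeafacada9a8abaa9e9f9c9d99989b9a9697949591909392cecfcccdc9c8cbcac6c7c4c5c1c0c3c2b6b7b4b5b1b0b3b2bebfbcbdb9b8bbbae6e7e4e5e1e0e3e2eeefecede9e8ebeadedfdcddd9d8dbdad6d7d4d5d1d0d3d28e8f8c8d89888b8a868784858180838274757677737271707c7d7e7f7b7a797824252627232221202c2d2e2f2b2a29281c1d1e1f1b1a191814151617131211104c4d4e4f4b4a4948444546474342414034353637333231303c3d3e3f3b3a393864656667636261606c6d6e6f6b6a69685c5d5e5f5b5a595854555657535251500c0d0e0f0b0a09080405060703020100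
  | _ => 0xb4b5b6b7b2b3b0b1bcbdbebfbabbb8b9acadaeafaaaba8a9a4a5a6a7a2a3a0a1d4d5d6d7d2d3d0d1dcdddedfdadbd8d9cccdcecfcacbc8c9c4c5c6c7c2c3c0c1f4f5f6f7f2f3f0f1fcfdfefffafbf8f9ecedeeefeaebe8e9e4e5e6e7e2e3e0e194959697929390919c9d9e9f9a9b98998c8d8e8f8a8b8889848586878283808135343736333231303d3c3f3e3b3a39382d2c2f2e2b2a2928252427262322212055545756535251505d5c5f5e5b5a59584d4c4f4e4b4a4948454447464342414075747776737271707d7c7f7e7b7a79786d6c6f6e6b6a6968656467666362616015141716131211101d1c1f1e1b1a19180d0c0f0e0b0a09080504070603020100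

theorem gn_apply (i n : ℕ) (h : n < 256) : (gn i).1 (dc8 n) = dc8 (lk (tb i) n) := by
  unfold gn tb
  split <;> simp (disch := decide) only [O.mul_apply, se_apply] <;> revert n <;> decide +kernel

theorem word_apply (w : List ℕ) (n : ℕ) (h : n < 256) :
    ((w.map gn).prod).1 (dc8 n) = dc8 (w.foldr (fun i => lk (tb i)) n) ∧ w.foldr (fun i => lk (tb i)) n < 256 := by
  induction w with
  | nil => exact ⟨rfl, h⟩
  | cons i w ih => exact ⟨by rw [List.map_cons, List.prod_cons, O.mul_apply, ih.1, gn_apply _ _ ih.2]; rfl,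
      Nat.mod_lt _ (by decide)⟩

/-- columns of the Clifford generators -/
def cols : Fin 3 ⊕ Fin 3 → List ℕ := Sum.elim
  ![[0, 1, 0, 0, 32, 0, 8, 4], [0, 0, 1, 0, 64, 8, 0, 2], [0, 0, 0, 1, 128, 4, 2, 0]]
  ![[2, 0, 128, 64, 0, 16, 0, 0], [4, 128, 0, 32, 0, 0, 16, 0], [8, 64, 32, 0, 0, 0, 0, 16]]
/-- the Clifford generators -/
def Am (k : Fin 3 ⊕ Fin 3) : Matrix (Fin (2 * 4)) (Fin (2 * 4)) (ZMod 2) := .of fun i j => dc8 ((cols k).getD j 0) i
/-- a quadratic form -/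
def Qa (a : C2U.V0) : ZMod 2 := ∑ i, a (.inl i) * a (.inr i)
/-- the nilpotent elements -/
def Aa (a : C2U.V0) : Matrix (Fin (2 * 4)) (Fin (2 * 4)) (ZMod 2) := ∑ k, a k • Am k + Qa a • 1

theorem Aa_add (a b : C2U.V0) : Aa (a + b) = Aa a + Aa b + β a b • 1 := by
  have : Qa (a + b) = Qa a + Qa b + β a b := by
    simp only [Qa, β, Fin.sum_univ_three, Pi.add_apply]; grind
  simp only [Aa, this, Pi.add_apply, add_smul, Finset.sum_add_distrib]; abel

theorem car (a b : C2U.V0) : Aa a * Aa b + Aa b * Aa a = β a b • 1 := by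
  let B := Fintype.linearCombination (ZMod 2) Am
  have := LinearMap.ext_basis (B := (LinearMap.mul _ _).compl₁₂ B B + ((LinearMap.mul _ _).compl₁₂ B B).flip)
    (B' := (bil _ _).compr₂ (LinearMap.toSpanSingleton _ _ 1)) (Pi.basisFun _ _) (Pi.basisFun _ _) fun i j => by
      simp only [B, LinearMap.add_apply, LinearMap.compl₁₂_apply, LinearMap.flip_apply, LinearMap.mul_apply',
        LinearMap.compr₂_apply, LinearMap.toSpanSingleton_apply, Pi.basisFun_apply,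
        Fintype.linearCombination_apply_single, one_smul, β_eq]
      revert i j; decide +kernel
  have := LinearMap.congr_fun₂ this a b
  simp only [B, LinearMap.add_apply, LinearMap.compl₁₂_apply, LinearMap.flip_apply, LinearMap.mul_apply',
    LinearMap.compr₂_apply, LinearMap.toSpanSingleton_apply, Fintype.linearCombination_apply, β_eq] at this
  rw [← this, Aa, Aa]
  simp only [add_mul, mul_add, smul_mul_assoc, mul_smul_comm, one_mul, mul_one]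
  v2

/-- pairs of an isometry and the symplectic map it induces -/
def MM (Γ : Subgroup (O q8)) : Subgroup (O q8 × Sp) where
  carrier := {p | p.1 ∈ Γ ∧ ∀ a v, p.1.1 (Aa a *ᵥ v) = Aa (p.2.1 *ᵥ a) *ᵥ p.1.1 v}
  one_mem' := ⟨Γ.one_mem, fun a v => by simp [O.one_apply]⟩
  mul_mem' h k := ⟨Γ.mul_mem h.1 k.1, fun a v => by simp [O.mul_apply, h.2, k.2]⟩
  inv_mem' {p} h := ⟨Γ.inv_mem h.1, fun a v => by
    rw [Prod.fst_inv, O.inv_apply_eq, h.2, O.apply_inv_apply, mulVec_mulVec, ← Submonoid.coe_mul, Prod.snd_inv,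
      mul_inv_cancel, OneMemClass.coe_one, one_mulVec]⟩

theorem tv_mem {Γ : Subgroup (O q8)} (h : ∀ i, gn i ∈ Γ) {a : C2U.V0} (w : List ℕ) (k : Aa a * Aa a = 0 ∧ ∀ j : Fin (2 * 4),
    dc8 (w.foldr (fun i => lk (tb i)) (2 ^ j.1)) = (1 + Aa a) *ᵥ Pi.single j 1) :
    tv a ∈ (MM Γ).map (MonoidHom.snd _ _) := by
  have e : ∀ v, ((w.map gn).prod).1 v = (1 + Aa a) *ᵥ v := fun v => LinearMap.congr_fun ((Pi.basisFun _ _).ext
    (f₁ := ((w.map gn).prod).1.toLinearMap) (f₂ := (1 + Aa a).mulVecLin) fun j => by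
      rw [Pi.basisFun_apply, mulVecLin_apply, ← k.2 j, ← (word_apply w _ (by revert j; decide)).1]
      rw [show Pi.single j 1 = dc8 (2 ^ j.1) by revert j; decide +kernel]; rfl) v
  refine ⟨((w.map gn).prod, tv a), ⟨list_prod_mem (List.forall_mem_map.2 fun i _ => h i), fun b v => ?_⟩, rfl⟩
  dsimp only
  rw [e, e, coe_tvSp, tvMat_mulVec, one_mul, β_eq, mulVec_mulVec, mulVec_mulVec]
  congr 1
  have := car b a
  rcases z2 (β b a) with r | r <;> rw [r] at this ⊢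
  · rw [zero_smul, add_zero, add_mul, mul_add, one_mul, mul_one, ← vadd_eq_zero, ← zero_smul (ZMod 2) 1, ← this]; v2
  · rw [one_smul, Aa_add, r]
    rw [← vadd_eq_zero, ← vadd_eq_zero.2 this]
    simp only [add_mul, mul_add, smul_mul_assoc, one_mul, mul_one, k.1]
    v2

theorem sp_of {Γ : Subgroup (O q8)} (h : ∀ i, gn i ∈ Γ) (c : Nat.card Γ ≤ 1451520) : Nonempty (Sp ≃* Γ) := by
  have t := top_of (K := (MM Γ).map (MonoidHom.snd _ _)) (by
    simp only [gens, List.forall_mem_cons]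
    exact ⟨tv_mem h [5, 1, 2, 1, 6, 1, 2, 1, 5, 1, 2, 1] (by decide +kernel),
      tv_mem h [6, 1, 2, 1, 5, 1, 2, 1, 5, 1, 2, 1] (by decide +kernel), tv_mem h [4, 3, 2] (by decide +kernel),
      tv_mem h [5, 1, 2, 1, 6, 1, 4, 3, 2, 1, 6, 1, 2, 1] (by decide +kernel),
      tv_mem h [0, 1, 4, 3, 2, 1, 0] (by decide +kernel),
      tv_mem h [3, 0, 1, 6, 1, 4, 3, 2, 1, 6, 1, 3, 0] (by decide +kernel),
      tv_mem h [6, 1, 2, 1, 6, 1, 2, 1, 5, 1, 2, 1] (by decide +kernel),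
      tv_mem h [5, 1, 2, 1, 6, 1, 2, 1, 4, 6, 3, 1, 2, 1] (by decide +kernel), by simp⟩)
  let f : MM Γ →* Sp := (MonoidHom.snd _ _).comp (MM Γ).subtype
  let g : MM Γ →* Γ := ((MonoidHom.fst _ _).comp (MM Γ).subtype).codRestrict Γ fun p => p.2.1
  have f1 : Function.Surjective f := fun m => let ⟨p, hp, e⟩ := t.ge (Subgroup.mem_top m); ⟨⟨p, hp⟩, e⟩
  have g1 : Function.Injective g := (injective_iff_map_eq_one g).2 fun p e => by
    have e : p.1.1 = 1 := congrArg Subtype.val e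
    have k : ∀ a, Aa a = Aa (p.1.2.1 *ᵥ a) := fun a => ext_iff_mulVec.2 fun v => by simpa [e, O.one_apply] using p.2.2 a v
    refine Subtype.ext (Prod.ext e (Subtype.ext (ext_iff_mulVec.2 fun a => ?_)))
    refine (vadd_eq_zero.1 ((bil_nondegenerate _ _).1 _ fun c => ?_)).trans (one_mulVec a).symm
    have := congrFun₂ ((car _ c).symm.trans (k a ▸ car a c)) 0 0
    rw [β_eq, β_add, vadd_eq_zero]
    simpa using this
  have c1 := Nat.card_le_card_of_surjective f f1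
  have c2 := Nat.card_le_card_of_injective g g1
  have c3 : Nat.card Sp = 1451520 := F2.card_sp_six
  exact ⟨(MulEquiv.ofBijective f ((Nat.bijective_iff_surjective_and_card f).2 ⟨f1, by omega⟩)).symm.trans
    (MulEquiv.ofBijective g (g1.bijective_of_nat_card_le (by omega)))⟩

theorem card_sp {Γ : Subgroup (O q8)} (h : ∀ i, gn i ∈ Γ) (L : V8 → V8 → Prop)
    (hc : ∀ g ∈ Γ, ∀ a b, L a b → L (g.1 a) (g.1 b)) (hp : ∀ a b c, L a b → L a c → polar q8 b c = 0)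
    (h1 : L (dc8 1) (dc8 2)) (h2 : L (dc8 16) (dc8 32)) : Nat.card Γ ≤ 1451520 := by
  have w : ∀ (w : List ℕ) a b, a < 256 → b < 256 → L (dc8 a) (dc8 b) →
      L (dc8 (w.foldr (fun i => lk (tb i)) a)) (dc8 (w.foldr (fun i => lk (tb i)) b)) := fun w a b ha hb k =>
    (word_apply w a ha).1 ▸ (word_apply w b hb).1 ▸ hc _ (list_prod_mem (List.forall_mem_map.2 fun i _ => h i)) _ _ k
  have l1 : L (dc8 1) (dc8 4) := w [6, 1, 2, 1] 1 2 (by decide) (by decide) h1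
  have l2 : L (dc8 1) (dc8 8) := w [1, 6, 3, 1, 6, 3, 2, 1] 1 2 (by decide) (by decide) h1
  have l3 : L (dc8 16) (dc8 64) := w [6, 2, 1, 2, 6] 16 32 (by decide) (by decide) h2
  have l4 : L (dc8 16) (dc8 128) := w [0, 1, 6, 1, 3, 2, 0] 16 32 (by decide) (by decide) h2
  have p : ∀ (g : O q8) a b c, g.1 a = c → p8 c (g.1 b) = p8 a b := fun g a b c e => by
    rw [← e, ← polar_q8, ← polar_q8, O.map_polar]
  have n : ∀ (g : O q8) a b c, g.1 a = c → a ≠ b → g.1 b ≠ c := fun g a b c e k r => k (g.1.injective (e.trans r.symm))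
  have u : ∀ g ∈ Γ, ∀ a b c, g.1 a = a → L a b → L a c → p8 c (g.1 b) = 0 := fun g hg a b c e k k' =>
    (polar_q8 _ _).symm.trans (hp a _ _ k' (e ▸ hc g hg a b k))
  let U : V8 → Prop := fun v => p8 (dc8 1) v = 0 ∧ p8 (dc8 2) v = 0 ∧ p8 (dc8 4) v = 0 ∧ p8 (dc8 8) v = 0 ∧
    p8 (dc8 16) v = 0 ∧ v ≠ 0
  have m : ∀ g ∈ Γ, g.1 (dc8 1) = dc8 1 → g.1 (dc8 16) = dc8 16 → ∀ b, L (dc8 1) b → U b → U (g.1 b) :=
    fun g hg e e' b k r => ⟨(p g _ _ _ e).trans r.1, u g hg _ _ _ e k h1, u g hg _ _ _ e k l1, u g hg _ _ _ e k l2,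
      (p g _ _ _ e').trans r.2.2.2.2.1, O.apply_ne_zero g r.2.2.2.2.2⟩
  have fin : ∀ A : Subgroup (O q8), Finite A := fun A => inferInstance
  have c1 := card_le_orbit Γ (dc8 1) {v | q8 v = 0 ∧ v ≠ 0} fun g _ =>
    ⟨(O.map_Q g _).trans (by decide), O.apply_ne_zero g (by decide)⟩
  have c2 := card_le_orbit (Γ ⊓ MulAction.stabilizer _ (dc8 1)) (dc8 16) {v | q8 v = 0 ∧ p8 (dc8 1) v = 1} fun g hg =>
    ⟨(O.map_Q g _).trans (by decide), (p g _ _ _ hg.2).trans (by decide)⟩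
  have c3 := card_le_orbit (Γ ⊓ MulAction.stabilizer _ (dc8 1) ⊓ MulAction.stabilizer _ (dc8 16)) (dc8 2) {v | U v}
    fun g hg => m g hg.1.1 hg.1.2 hg.2 _ h1 (by decide)
  have c4 := card_le_orbit (Γ ⊓ MulAction.stabilizer _ (dc8 1) ⊓ MulAction.stabilizer _ (dc8 16) ⊓
    MulAction.stabilizer _ (dc8 2)) (dc8 4) {v | U v ∧ v ≠ dc8 2} fun g hg =>
    ⟨m g hg.1.1.1 hg.1.1.2 hg.1.2 _ l1 (by decide), n g _ _ _ hg.2 (by decide)⟩
  have c5 := card_le_orbit (Γ ⊓ MulAction.stabilizer _ (dc8 1) ⊓ MulAction.stabilizer _ (dc8 16) ⊓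
    MulAction.stabilizer _ (dc8 2) ⊓ MulAction.stabilizer _ (dc8 4)) (dc8 8)
    {v | U v ∧ v ≠ dc8 2 ∧ v ≠ dc8 4 ∧ v ≠ dc8 2 + dc8 4} fun g hg =>
    ⟨m g hg.1.1.1.1 hg.1.1.1.2 hg.1.1.2 _ l2 (by decide), n g _ _ _ hg.1.2 (by decide), n g _ _ _ hg.2 (by decide),
      n g (dc8 2 + dc8 4) _ _ (by rw [map_add]; exact congrArg₂ _ hg.1.2 hg.2) (by decide)⟩
  rw [(Subgroup.eq_bot_iff_forall (Γ ⊓ MulAction.stabilizer _ (dc8 1) ⊓ MulAction.stabilizer _ (dc8 16) ⊓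
    MulAction.stabilizer _ (dc8 2) ⊓ MulAction.stabilizer _ (dc8 4) ⊓ MulAction.stabilizer _ (dc8 8))).2
    fun g ⟨⟨⟨⟨⟨hg, e1⟩, e5⟩, e2⟩, e3⟩, e4⟩ => ?_, Subgroup.card_bot] at c5
  · simp only [Set.coe_setOf, Nat.card_eq_fintype_card, Fintype.card_subtype, q8_apply] at c1 c2 c3 c4 c5
    rw [show Finset.card _ = 135 by decide +kernel] at c1
    rw [show Finset.card _ = 64 by decide +kernel] at c2
    rw [show Finset.card _ = 7 by decide +kernel] at c3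
    rw [show Finset.card _ = 6 by decide +kernel] at c4
    rw [show Finset.card _ = 4 by decide +kernel] at c5
    omega
  have k : ∀ b, L (dc8 16) b → (∀ c ∈ [16, 32, 64, 128], p8 (dc8 c) b = 0) → g.1 b = b := fun b k r =>
    (by decide +kernel : ∀ v : V8, (∀ c ∈ [1, 2, 4, 8, 16, 32, 64, 128], p8 (dc8 c) v = 0) → v = 0) _ (by
      simp only [List.forall_mem_cons, ← polar_q8, polar_add_right, vadd_eq_zero] at r ⊢
      simp only [polar_q8] at r ⊢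
      exact ⟨p g _ _ _ e1, p g _ _ _ e2, p g _ _ _ e3, p g _ _ _ e4, p g _ _ _ e5, (u g hg _ _ _ e5 k h2).trans r.2.1.symm,
        (u g hg _ _ _ e5 k l3).trans r.2.2.1.symm, (u g hg _ _ _ e5 k l4).trans r.2.2.2.1.symm, by simp⟩) |> vadd_eq_zero.1
  have k' : ∀ c ∈ [1, 2, 4, 8, 16, 32, 64, 128], g.1 (dc8 c) = dc8 c := by
    simp only [List.forall_mem_cons]
    exact ⟨e1, e2, e3, e4, e5, k _ h2 (by decide), k _ l3 (by decide), k _ l4 (by decide), by simp⟩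
  exact O.ext (LinearMap.congr_fun ((Pi.basisFun _ _).ext (f₁ := g.1.toLinearMap) (f₂ := .id) fun j => by
    rw [Pi.basisFun_apply, show Pi.single j 1 = dc8 (2 ^ j.1) by revert j; decide +kernel]
    exact k' _ (by revert j; decide)))

variable {V : Type*} [AddCommGroup V] [Module (ZMod 2) V] {q : QuadraticForm (ZMod 2) V}
  {Γ : Subgroup (O q)} {S : Set (O q)}

theorem Geo.sp (C : Geo Γ S) (h : Mt S) : Nat.card V = 256 ∧ Nonempty (Sp ≃* Γ) := by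
  have := C.fin
  have nd := C.nd
  obtain ⟨s, hs, t, ht, st, e, e0, es, et⟩ := h
  obtain ⟨f, h⟩ : ∃ f, Sg s e f := let ⟨_, _, k⟩ := C.sg s hs; k.of_mem es e0
  obtain ⟨v, h'⟩ : ∃ f, Sg t e f := let ⟨_, _, k⟩ := C.sg t ht; k.of_mem et e0
  obtain ⟨r, hr, o⟩ := C.opp hs
  obtain ⟨e', f', H⟩ : ∃ a b, Hq s r e f a b := let ⟨_, _, k⟩ := C.sg r hr; o.hq nd h k
  obtain ⟨X, L⟩ := C.ln s hs
  obtain ⟨t, ht, v, h', hv⟩ : ∃ t ∈ S, ∃ v, Sg t e v ∧ Nn s r v := by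
    have sv := h.fix_iff.2 ⟨h'.ef, C.prp hs ht h h'⟩
    obtain ⟨n, hn, k⟩ := exists_nn nd H sv
    obtain ⟨a, b, k'⟩ := h.of_comm k
    have e1 : v = n + a • e + b • f := by rw [add_assoc, ← k', add_comm v, vadd_cancel]
    have n0 : n ≠ 0 := fun p => st (h'.eq_of_mem nd h es (by simpa [p] using k)).symm
    obtain ⟨m, hm, p⟩ : ∃ m, Nn s r m ∧ polar q n m = b := by
      obtain ⟨m, hm, p⟩ : ∃ m, Nn s r m ∧ polar q n m ≠ 0 := by
        by_contra! k; exact n0 (H.eq_zero nd hn k)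
      exact ⟨_, hm.smul b, by rw [polar_smul_right', z2_ne.1 p, mul_one]⟩
    obtain ⟨_, -, -, x, hx, -, p2⟩ := th_right nd L H hm
    obtain ⟨c, d, p3⟩ := h.of_comm (L.pp x⁻¹ (X.inv_mem hx) v sv)
    have p4 : d = b := by
      have := congrArg (polar q f') p3
      rw [polar_comm, polar_move, inv_inv, ← vadd_cancel' (x.1 f' + f') m, polar_add_right, polar_comm,
        polar_comm_fix p2 sv, e1] at this
      simpa [polar_add_left, polar_add_right, p, (H.nn hm).1, (H.nn hm).2.1, polar_comm q f', H.ef, H.ff] using this.symm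
    have k1 := h'.conj x⁻¹
    rw [L.fx _ (X.inv_mem hx) e es, ← vadd_cancel' ((x⁻¹).1 v) v, p3, p4, e1,
      show c • e + b • f + (n + a • e + b • f) = (a + c) • e + n by v2] at k1
    refine ⟨_, C.conj t ht _ (L.le (X.inv_mem hx)), n, ?_, hn⟩
    rcases z2 (a + c) with p | p <;> rw [p] at k1
    · simpa using k1
    · simpa [vadd_cancel] using k1.add
  obtain ⟨u, p1⟩ := th_left nd L H hv
  have p2 := p1.next nd L H
  have uq := p1.q_eq L H
  rw [h'.qf] at uq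
  obtain ⟨w, hw, w0, w1, w2⟩ : ∃ w, Nn s r w ∧ q w = 0 ∧ polar q v w = 1 ∧ polar q u w = 0 := by
    obtain ⟨y, y1, y2⟩ := (sg_eich h'.qf uq.1 uq.2 h'.f0 (fun k => h'.f0 (p1.zero L H (.inr (.inl k))).1)
      fun k => h'.f0 (p1.zero L H (.inr (.inr k))).1).dual nd 1 0
    rw [← H.polar_proj hv] at y1
    rw [← H.polar_proj p1.r] at y2
    have := H.proj y
    generalize y + _ + _ + _ + _ = w at y1 y2 this
    exact ⟨_, this.add (hv.smul (q w)), by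
      rw [Q_add, q_smul2, h'.qf, polar_smul_right', polar_comm, y1]; grind, by
      simp [polar_add_right, y1, polar_self2, -polar_self], by simp [polar_add_right, y2, polar_comm q u v, uq.2]⟩
  obtain ⟨w', p3⟩ := th_left nd L H hw
  have p4 := p3.add nd L (p3.next nd L H)
  rw [add_comm w' (w + w'), vadd_cancel'] at p4
  have wq := p4.q_eq L H
  have wq' := p3.q_eq L H
  have pw := p1.pol nd L H p4
  rw [← vadd_cancel w w'] at p3
  rw [w0] at wq'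
  rw [show q (w + w') = 0 by rw [← wq.1, w0]] at wq
  have zq : q (w + w') = 0 := by rw [Q_add, wq'.1, wq'.2, w0]; rfl
  generalize w + w' = y at *
  rw [w1, w2] at pw
  have vy : polar q v y = 0 := pw.1.symm
  have uy : polar q u y = 1 := by have := pw.2; grind
  obtain ⟨a1, a2, a3, a4⟩ := H.nn hv
  obtain ⟨b1, b2, b3, b4⟩ := H.nn p1.r
  obtain ⟨c1, c2, c3, c4⟩ := H.nn hw
  obtain ⟨d1, d2, d3, d4⟩ := H.nn p4.l
  let E := Fintype.linearCombination (ZMod 2) (![e, f, v, y, e', f', w, u] : Fin (2 * 4) → V)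
  have E1 : ∀ c, E c = c 0 • e + c 1 • f + c 2 • v + c 3 • y + c 4 • e' + c 5 • f' + c 6 • w + c 7 • u := fun c =>
    (Fintype.linearCombination_apply _ _ _).trans (Fin.sum_univ_eight _)
  have E2 : ∀ c, q (E c) = q8 c := fun c => by
    simp only [E1, q8_apply, Q_add, q_smul2, polar_add_left, polar_smul_left', polar_smul_right', h.qe, h.qf, h'.qf, zq,
      H.r.qe, H.r.qf, w0, uq, h.ef, H.r.ef, H.ee, H.ef, H.fe, H.ff, a1, a2, a3, a4, b1, b2, b3, b4, c1, c2, c3, c4,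
      d1, d2, d3, d4, polar_comm q v e', polar_comm q v f', polar_comm q y e', polar_comm q y f', vy, w1, wq,
      polar_comm q y u, polar_comm q w u, uy, w2]
    ring
  have E3 : Function.Injective E := (injective_iff_map_eq_zero E).2 fun c k =>
    (by decide +kernel : ∀ v : V8, (∀ c ∈ [1, 2, 4, 8, 16, 32, 64, 128], p8 (dc8 c) v = 0) → v = 0) c fun d _ => by
      rw [← polar_q8, ← polar_of_isom (Q' := q) E E2, k, polar_zero_right]
  have cV : Nat.card V = 256 := by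
    have h1 := Nat.card_le_card_of_injective E E3
    have h2 := C.card_le L H ht h' p1
    obtain ⟨k, h3⟩ := even_finrank_of_two_eq_zero nd rfl
    rw [Nat.card_fun, Nat.card_zmod, Nat.card_eq_fintype_card, Fintype.card_fin, card_pow,
      Nat.pow_le_pow_iff_right one_lt_two] at h1
    rw [card_pow, show 512 = 2 ^ 9 from rfl, Nat.pow_le_pow_iff_right one_lt_two] at h2
    rw [card_pow, show finrank (ZMod 2) V = 8 by omega]; rfl
  let φ := LinearEquiv.ofBijective E (E3.bijective_of_nat_card_le (by simp [cV]))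
  let ψ := O.congrI (Q := q8) (Q' := q) φ E2
  have k : ∀ {s a b}, Sg s a b → Sg (ψ s) (E a) (E b) := fun {s a b} k =>
    ⟨(E2 a).trans k.qe, (E2 b).trans k.qf, (polar_of_isom E E2 a b).trans k.ef, fun r => k.e0 (E3 (r.trans E.map_zero.symm)),
      fun r => k.f0 (E3 (r.trans E.map_zero.symm)), fun r => k.ne (E3 r), fun v => by
        obtain ⟨v, rfl⟩ := φ.surjective v
        refine (O.congrI_apply' φ E2 s v).trans ?_
        rw [k.ap]
        change E _ = E v + polar q _ (E v) • _ + polar q _ (E v) • _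
        simp only [map_add, map_smul, polar_of_isom E E2]⟩
  have k1 : ∀ a b, (q8 (dc8 a) = 0 ∧ q8 (dc8 b) = 0 ∧ p8 (dc8 a) (dc8 b) = 0 ∧ dc8 a ≠ 0 ∧ dc8 b ≠ 0 ∧ dc8 a ≠ dc8 b) →
      Sg (ψ (se a b)) (E (dc8 a)) (E (dc8 b)) := fun a b r =>
    k (sg_eich r.1 r.2.1 (polar_q8 _ _ ▸ r.2.2.1) r.2.2.2.1 r.2.2.2.2.1 r.2.2.2.2.2)
  have k2 : ∀ a b, (q8 (dc8 a) = 0 ∧ q8 (dc8 b) = 0 ∧ p8 (dc8 a) (dc8 b) = 0 ∧ dc8 a ≠ 0 ∧ dc8 b ≠ 0 ∧ dc8 a ≠ dc8 b) →
      ψ (se a b) = eich q (E (dc8 a)) (E (dc8 b)) := fun a b r =>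
    have k := k1 a b r
    k.eq (sg_eich k.qe k.qf k.ef k.e0 k.f0 k.ne)
  have ev : E (dc8 1) = e ∧ E (dc8 2) = f ∧ E (dc8 4) = v ∧ E (dc8 8) = y ∧ E (dc8 16) = e' ∧ E (dc8 32) = f' ∧
      E (dc8 64) = w ∧ E (dc8 128) = u ∧ E (dc8 132) = v + u ∧ E (dc8 72) = w + y := by
    simp (decide := true) [E1, dc8, add_comm]
  obtain ⟨v1, v2, v3, v4, v5, v6, v7, v8, v9, v10⟩ := ev
  have g : ∀ i, gn i ∈ Γ.comap ψ.toMonoidHom := fun i => by
    have m : ∀ {s a b}, s ∈ S → Sg s a b → eich q a b ∈ Γ := fun hs k =>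
      k.eq (sg_eich k.qe k.qf k.ef k.e0 k.f0 k.ne) ▸ C.mem hs
    unfold gn
    split <;> simp (disch := decide) only [Subgroup.mem_comap, MulEquiv.coe_toMonoidHom, map_mul, k2, v1, v2, v3, v4, v5,
      v6, v7, v8, v9, v10]
    exacts [m hs h, m hr H.r, m ht h', p1.mem nd L H h'.qf, p2.mem nd L H uq.1, p3.mem nd L H w0, p4.mem nd L H zq]
  obtain ⟨χ⟩ := sp_of g (card_sp g (fun a b => ∃ s ∈ S, Sg s (E a) (E b))
    (fun g hg a b ⟨s, hs, k⟩ => ⟨_, C.conj s hs _ hg, by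
      have e : ∀ v, E (g.1 v) = (ψ g).1 (E v) := fun v => (O.congrI_apply' φ E2 g v).symm
      rw [e, e]; exact k.conj (ψ g)⟩)
    (fun a b c ⟨s, hs, k⟩ ⟨t, ht, k'⟩ => (polar_of_isom E E2 b c).symm.trans (C.prp hs ht k k'))
    ⟨s, hs, v1 ▸ v2 ▸ h⟩ ⟨r, hr, v5 ▸ v6 ▸ H.r⟩)
  exact ⟨cV, ⟨χ.trans ((ψ.subgroupMap _).trans (MulEquiv.subgroupCongr
    (Subgroup.map_comap_eq_self_of_surjective ψ.surjective Γ)))⟩⟩

end Cfsg.Lib.LX
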